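import Cfsg.Agent.Lib.Helper27.Fi22.T3.Data

set_option autoImplicit false
set_option maxRecDepth 100000
set_option linter.all false

namespace Cfsg.Agent.Helper27.Fi22TC.T3

open Cfsg.Agent.Helper28 Cfsg.Agent.Helper27.Fi22TC
open Cfsg.Spor.Fi22 (Gen)

noncomputable section

theorem RW_0 : wG D.rels [(Gen.b, true), (Gen.h, true), (Gen.b, true), (Gen.h, true)] = 1 :=
  wG_of_rotate D.rels R13 [(Gen.b, true), (Gen.h, true), (Gen.b, true), (Gen.h, true)] 0 (by decide +kernel) relone_13
theorem RW_1 : wG D.rels [(Gen.b, true), (Gen.d, true), (Gen.b, true), (Gen.d, true)] = 1 :=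
  wG_of_rotate D.rels R10 [(Gen.b, true), (Gen.d, true), (Gen.b, true), (Gen.d, true)] 0 (by decide +kernel) relone_10
theorem RW_2 : wG D.rels [(Gen.b, true), (Gen.e, true), (Gen.b, true), (Gen.e, true)] = 1 :=
  wG_of_rotate D.rels R11 [(Gen.b, true), (Gen.e, true), (Gen.b, true), (Gen.e, true)] 0 (by decide +kernel) relone_11
theorem RW_3 : wG D.rels [(Gen.b, true), (Gen.b, true)] = 1 :=
  wG_of_rotate D.rels R3 [(Gen.b, true), (Gen.b, true)] 0 (by decide +kernel) relone_3
theorem RW_4 : wG D.rels [(Gen.b, true), (Gen.f, true), (Gen.b, true), (Gen.f, true)] = 1 :=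
  wG_of_rotate D.rels R12 [(Gen.b, true), (Gen.f, true), (Gen.b, true), (Gen.f, true)] 0 (by decide +kernel) relone_12
theorem RW_5 : wG D.rels [(Gen.b, true), (Gen.c, true), (Gen.b, true), (Gen.c, true), (Gen.b, true), (Gen.c, true)] = 1 :=
  wG_of_rotate D.rels R9 [(Gen.b, true), (Gen.c, true), (Gen.b, true), (Gen.c, true), (Gen.b, true), (Gen.c, true)] 0 (by decide +kernel) relone_9
theorem RW_6 : wG D.rels [(Gen.c, true), (Gen.h, true), (Gen.c, true), (Gen.h, true)] = 1 :=
  wG_of_rotate D.rels R17 [(Gen.c, true), (Gen.h, true), (Gen.c, true), (Gen.h, true)] 0 (by decide +kernel) relone_17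
theorem RW_7 : wG D.rels [(Gen.c, true), (Gen.c, true)] = 1 :=
  wG_of_rotate D.rels R4 [(Gen.c, true), (Gen.c, true)] 0 (by decide +kernel) relone_4
theorem RW_8 : wG D.rels [(Gen.c, true), (Gen.e, true), (Gen.c, true), (Gen.e, true)] = 1 :=
  wG_of_rotate D.rels R15 [(Gen.c, true), (Gen.e, true), (Gen.c, true), (Gen.e, true)] 0 (by decide +kernel) relone_15
theorem RW_9 : wG D.rels [(Gen.c, true), (Gen.b, true), (Gen.c, true), (Gen.b, true), (Gen.c, true), (Gen.b, true)] = 1 :=
  wG_of_rotate D.rels R9 [(Gen.c, true), (Gen.b, true), (Gen.c, true), (Gen.b, true), (Gen.c, true), (Gen.b, true)] 1 (by decide +kernel) relone_9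
theorem RW_10 : wG D.rels [(Gen.c, true), (Gen.f, true), (Gen.c, true), (Gen.f, true)] = 1 :=
  wG_of_rotate D.rels R16 [(Gen.c, true), (Gen.f, true), (Gen.c, true), (Gen.f, true)] 0 (by decide +kernel) relone_16
theorem RW_11 : wG D.rels [(Gen.c, true), (Gen.d, true), (Gen.c, true), (Gen.d, true), (Gen.c, true), (Gen.d, true)] = 1 :=
  wG_of_rotate D.rels R14 [(Gen.c, true), (Gen.d, true), (Gen.c, true), (Gen.d, true), (Gen.c, true), (Gen.d, true)] 0 (by decide +kernel) relone_14
theorem RW_12 : wG D.rels [(Gen.d, true), (Gen.d, true)] = 1 :=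
  wG_of_rotate D.rels R5 [(Gen.d, true), (Gen.d, true)] 0 (by decide +kernel) relone_5
theorem RW_13 : wG D.rels [(Gen.d, true), (Gen.c, true), (Gen.d, true), (Gen.c, true), (Gen.d, true), (Gen.c, true)] = 1 :=
  wG_of_rotate D.rels R14 [(Gen.d, true), (Gen.c, true), (Gen.d, true), (Gen.c, true), (Gen.d, true), (Gen.c, true)] 1 (by decide +kernel) relone_14
theorem RW_14 : wG D.rels [(Gen.d, true), (Gen.e, true), (Gen.d, true), (Gen.e, true), (Gen.d, true), (Gen.e, true)] = 1 :=
  wG_of_rotate D.rels R18 [(Gen.d, true), (Gen.e, true), (Gen.d, true), (Gen.e, true), (Gen.d, true), (Gen.e, true)] 0 (by decide +kernel) relone_18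
theorem RW_15 : wG D.rels [(Gen.d, true), (Gen.b, true), (Gen.d, true), (Gen.b, true)] = 1 :=
  wG_of_rotate D.rels R10 [(Gen.d, true), (Gen.b, true), (Gen.d, true), (Gen.b, true)] 1 (by decide +kernel) relone_10
theorem RW_16 : wG D.rels [(Gen.d, true), (Gen.f, true), (Gen.d, true), (Gen.f, true)] = 1 :=
  wG_of_rotate D.rels R19 [(Gen.d, true), (Gen.f, true), (Gen.d, true), (Gen.f, true)] 0 (by decide +kernel) relone_19
theorem RW_17 : wG D.rels [(Gen.d, true), (Gen.h, true), (Gen.d, true), (Gen.h, true), (Gen.d, true), (Gen.h, true)] = 1 :=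
  wG_of_rotate D.rels R20 [(Gen.d, true), (Gen.h, true), (Gen.d, true), (Gen.h, true), (Gen.d, true), (Gen.h, true)] 0 (by decide +kernel) relone_20
theorem RW_18 : wG D.rels [(Gen.e, true), (Gen.h, true), (Gen.e, true), (Gen.h, true)] = 1 :=
  wG_of_rotate D.rels R22 [(Gen.e, true), (Gen.h, true), (Gen.e, true), (Gen.h, true)] 0 (by decide +kernel) relone_22
theorem RW_19 : wG D.rels [(Gen.e, true), (Gen.e, true)] = 1 :=
  wG_of_rotate D.rels R6 [(Gen.e, true), (Gen.e, true)] 0 (by decide +kernel) relone_6
theorem RW_20 : wG D.rels [(Gen.e, true), (Gen.f, true), (Gen.e, true), (Gen.f, true), (Gen.e, true), (Gen.f, true)] = 1 :=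
  wG_of_rotate D.rels R21 [(Gen.e, true), (Gen.f, true), (Gen.e, true), (Gen.f, true), (Gen.e, true), (Gen.f, true)] 0 (by decide +kernel) relone_21
theorem RW_21 : wG D.rels [(Gen.e, true), (Gen.d, true), (Gen.e, true), (Gen.d, true), (Gen.e, true), (Gen.d, true)] = 1 :=
  wG_of_rotate D.rels R18 [(Gen.e, true), (Gen.d, true), (Gen.e, true), (Gen.d, true), (Gen.e, true), (Gen.d, true)] 1 (by decide +kernel) relone_18
theorem RW_22 : wG D.rels [(Gen.e, true), (Gen.c, true), (Gen.e, true), (Gen.c, true)] = 1 :=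
  wG_of_rotate D.rels R15 [(Gen.e, true), (Gen.c, true), (Gen.e, true), (Gen.c, true)] 1 (by decide +kernel) relone_15
theorem RW_23 : wG D.rels [(Gen.e, true), (Gen.b, true), (Gen.e, true), (Gen.b, true)] = 1 :=
  wG_of_rotate D.rels R11 [(Gen.e, true), (Gen.b, true), (Gen.e, true), (Gen.b, true)] 1 (by decide +kernel) relone_11
theorem RW_24 : wG D.rels [(Gen.f, true), (Gen.h, true), (Gen.f, true), (Gen.h, true)] = 1 :=
  wG_of_rotate D.rels R23 [(Gen.f, true), (Gen.h, true), (Gen.f, true), (Gen.h, true)] 0 (by decide +kernel) relone_23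
theorem RW_25 : wG D.rels [(Gen.f, true), (Gen.d, true), (Gen.f, true), (Gen.d, true)] = 1 :=
  wG_of_rotate D.rels R19 [(Gen.f, true), (Gen.d, true), (Gen.f, true), (Gen.d, true)] 1 (by decide +kernel) relone_19
theorem RW_26 : wG D.rels [(Gen.f, true), (Gen.c, true), (Gen.f, true), (Gen.c, true)] = 1 :=
  wG_of_rotate D.rels R16 [(Gen.f, true), (Gen.c, true), (Gen.f, true), (Gen.c, true)] 1 (by decide +kernel) relone_16
theorem RW_27 : wG D.rels [(Gen.f, true), (Gen.b, true), (Gen.f, true), (Gen.b, true)] = 1 :=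
  wG_of_rotate D.rels R12 [(Gen.f, true), (Gen.b, true), (Gen.f, true), (Gen.b, true)] 1 (by decide +kernel) relone_12
theorem RW_28 : wG D.rels [(Gen.f, true), (Gen.f, true)] = 1 :=
  wG_of_rotate D.rels R7 [(Gen.f, true), (Gen.f, true)] 0 (by decide +kernel) relone_7
theorem RW_29 : wG D.rels [(Gen.f, true), (Gen.e, true), (Gen.f, true), (Gen.e, true), (Gen.f, true), (Gen.e, true)] = 1 :=
  wG_of_rotate D.rels R21 [(Gen.f, true), (Gen.e, true), (Gen.f, true), (Gen.e, true), (Gen.f, true), (Gen.e, true)] 1 (by decide +kernel) relone_21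
theorem RW_30 : wG D.rels [(Gen.h, true), (Gen.h, true)] = 1 :=
  wG_of_rotate D.rels R8 [(Gen.h, true), (Gen.h, true)] 0 (by decide +kernel) relone_8
theorem RW_31 : wG D.rels [(Gen.h, true), (Gen.d, true), (Gen.h, true), (Gen.d, true), (Gen.h, true), (Gen.d, true)] = 1 :=
  wG_of_rotate D.rels R20 [(Gen.h, true), (Gen.d, true), (Gen.h, true), (Gen.d, true), (Gen.h, true), (Gen.d, true)] 1 (by decide +kernel) relone_20
theorem RW_32 : wG D.rels [(Gen.h, true), (Gen.c, true), (Gen.h, true), (Gen.c, true)] = 1 :=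
  wG_of_rotate D.rels R17 [(Gen.h, true), (Gen.c, true), (Gen.h, true), (Gen.c, true)] 1 (by decide +kernel) relone_17
theorem RW_33 : wG D.rels [(Gen.h, true), (Gen.e, true), (Gen.h, true), (Gen.e, true)] = 1 :=
  wG_of_rotate D.rels R22 [(Gen.h, true), (Gen.e, true), (Gen.h, true), (Gen.e, true)] 1 (by decide +kernel) relone_22
theorem RW_34 : wG D.rels [(Gen.h, true), (Gen.b, true), (Gen.h, true), (Gen.b, true)] = 1 :=
  wG_of_rotate D.rels R13 [(Gen.h, true), (Gen.b, true), (Gen.h, true), (Gen.b, true)] 1 (by decide +kernel) relone_13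
theorem RW_35 : wG D.rels [(Gen.h, true), (Gen.f, true), (Gen.h, true), (Gen.f, true)] = 1 :=
  wG_of_rotate D.rels R23 [(Gen.h, true), (Gen.f, true), (Gen.h, true), (Gen.f, true)] 1 (by decide +kernel) relone_23
def certL_a : List (Cert D.rels D.S Gen.a) :=
  [Cert.tree,
   Cert.rel true [] relone_0]
def ct_a : Nat := 969923143031782486511774592233910549157377839612595450643384533697636176888360263413005494357815862704304593827514271919024960918850004744970769235693698697712183420190977
def certL_b : List (Cert D.rels D.S Gen.b) :=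
  [Cert.tree,
   Cert.sub true [] [] (D.sub_mem Gen.b (by decide)),
   Cert.rel true [(Gen.h, true), (Gen.b, true), (Gen.h, true)] RW_0,
   Cert.rel true [(Gen.d, true), (Gen.b, true), (Gen.d, true)] RW_1,
   Cert.rel true [(Gen.e, true), (Gen.b, true), (Gen.e, true)] RW_2,
   Cert.rel true [(Gen.b, true)] RW_3,
   Cert.rel true [(Gen.f, true), (Gen.b, true), (Gen.f, true)] RW_4,
   Cert.rel true [(Gen.c, true), (Gen.b, true), (Gen.c, true), (Gen.b, true), (Gen.c, true)] RW_5]
def ct_b : Nat := 1943649848643567219574128362892505909581326137353638535979524034042698481819138645401486502327435556586776166983502293639190285754740174014405659992525596316915931841495553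
def certL_c : List (Cert D.rels D.S Gen.c) :=
  [Cert.tree,
   Cert.sub true [] [] (D.sub_mem Gen.c (by decide)),
   Cert.rel true [(Gen.h, true), (Gen.c, true), (Gen.h, true)] RW_6,
   Cert.rel true [(Gen.c, true)] RW_7,
   Cert.rel true [(Gen.e, true), (Gen.c, true), (Gen.e, true)] RW_8,
   Cert.rel true [(Gen.b, true), (Gen.c, true), (Gen.b, true), (Gen.c, true), (Gen.b, true)] RW_9,
   Cert.rel true [(Gen.f, true), (Gen.c, true), (Gen.f, true)] RW_10,
   Cert.rel true [(Gen.d, true), (Gen.c, true), (Gen.d, true), (Gen.c, true), (Gen.d, true)] RW_11]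
def ct_c : Nat := 1958745698342863628705473409036961763189233602949806315899408352250748572851913058947742673049432518470423828543770989447912592860755014129239579935078733988457175509369345
def certL_d : List (Cert D.rels D.S Gen.d) :=
  [Cert.tree,
   Cert.sub true [] [] (D.sub_mem Gen.d (by decide)),
   Cert.rel true [(Gen.d, true)] RW_12,
   Cert.rel true [(Gen.c, true), (Gen.d, true), (Gen.c, true), (Gen.d, true), (Gen.c, true)] RW_13,
   Cert.rel true [(Gen.e, true), (Gen.d, true), (Gen.e, true), (Gen.d, true), (Gen.e, true)] RW_14,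
   Cert.rel true [(Gen.b, true), (Gen.d, true), (Gen.b, true)] RW_15,
   Cert.rel true [(Gen.f, true), (Gen.d, true), (Gen.f, true)] RW_16,
   Cert.rel true [(Gen.h, true), (Gen.d, true), (Gen.h, true), (Gen.d, true), (Gen.h, true)] RW_17]
def ct_d : Nat := 6770488879413537586382742020694839852466293789430267502483257543678582848861664056082635214614914209854470404092877382410290719351274140661204495772130559516977874769936385
def certL_e : List (Cert D.rels D.S Gen.e) :=
  [Cert.tree,
   Cert.sub true [] [] (D.sub_mem Gen.e (by decide)),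
   Cert.rel true [(Gen.h, true), (Gen.e, true), (Gen.h, true)] RW_18,
   Cert.rel true [(Gen.e, true)] RW_19,
   Cert.rel true [(Gen.f, true), (Gen.e, true), (Gen.f, true), (Gen.e, true), (Gen.f, true)] RW_20,
   Cert.rel true [(Gen.d, true), (Gen.e, true), (Gen.d, true), (Gen.e, true), (Gen.d, true)] RW_21,
   Cert.rel true [(Gen.c, true), (Gen.e, true), (Gen.c, true)] RW_22,
   Cert.rel true [(Gen.b, true), (Gen.e, true), (Gen.b, true)] RW_23]
def ct_e : Nat := 1951182972515828629755121857289496610653890164257239221059863358095700489470891907651165387983521676407202520653528244383254379445645533497415261523490758018372620469142017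
def certL_f : List (Cert D.rels D.S Gen.f) :=
  [Cert.tree,
   Cert.sub true [] [] (D.sub_mem Gen.f (by decide)),
   Cert.rel true [(Gen.h, true), (Gen.f, true), (Gen.h, true)] RW_24,
   Cert.rel true [(Gen.d, true), (Gen.f, true), (Gen.d, true)] RW_25,
   Cert.rel true [(Gen.c, true), (Gen.f, true), (Gen.c, true)] RW_26,
   Cert.rel true [(Gen.b, true), (Gen.f, true), (Gen.b, true)] RW_27,
   Cert.rel true [(Gen.f, true)] RW_28,
   Cert.rel true [(Gen.e, true), (Gen.f, true), (Gen.e, true), (Gen.f, true), (Gen.e, true)] RW_29]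
def ct_f : Nat := 1943649906232310075527487254990329154178247207173153457922681045239805712369012053151980294863552434476984381543458731396926030791090131443740003540253534311058567585792513
def certL_g : List (Cert D.rels D.S Gen.g) :=
  [Cert.tree,
   Cert.rel true [] relone_1]
def ct_g : Nat := 969923143031782486511774592233910549157377839612595450643384533697636176888360263413005494357815862704304593827514271919024960918850004744970769235693698697712183420190977
def certL_h : List (Cert D.rels D.S Gen.h) :=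
  [Cert.tree,
   Cert.rel true [(Gen.h, true)] RW_30,
   Cert.rel true [(Gen.d, true), (Gen.h, true), (Gen.d, true), (Gen.h, true), (Gen.d, true)] RW_31,
   Cert.rel true [(Gen.c, true), (Gen.h, true), (Gen.c, true)] RW_32,
   Cert.rel true [(Gen.e, true), (Gen.h, true), (Gen.e, true)] RW_33,
   Cert.rel true [(Gen.b, true), (Gen.h, true), (Gen.b, true)] RW_34,
   Cert.rel true [(Gen.f, true), (Gen.h, true), (Gen.f, true)] RW_35]
def ct_h : Nat := 966178895485332362492440943679501058573030963781279483406754539123450433810732688653813094644200577814776905469685459641284694341989483763862612071049576140202197964161280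
def certL_i : List (Cert D.rels D.S Gen.i) :=
  [Cert.tree,
   Cert.rel true [] relone_2]
def ct_i : Nat := 969923143031782486511774592233910549157377839612595450643384533697636176888360263413005494357815862704304593827514271919024960918850004744970769235693698697712183420190977
def cert : (x : Gen) → Fin D.n → Cert D.rels D.S x
  | .a, p => pick certL_a (look8 ct_a p.val) Cert.tree
  | .b, p => pick certL_b (look8 ct_b p.val) Cert.tree
  | .c, p => pick certL_c (look8 ct_c p.val) Cert.tree
  | .d, p => pick certL_d (look8 ct_d p.val) Cert.tree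
  | .e, p => pick certL_e (look8 ct_e p.val) Cert.tree
  | .f, p => pick certL_f (look8 ct_f p.val) Cert.tree
  | .g, p => pick certL_g (look8 ct_g p.val) Cert.tree
  | .h, p => pick certL_h (look8 ct_h p.val) Cert.tree
  | .i, p => pick certL_i (look8 ct_i p.val) Cert.tree

end

end Cfsg.Agent.Helper27.Fi22TC.T3
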