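import Cfsg.Agent.Lib.Helper27.Fi22.TCGen

set_option autoImplicit false
set_option maxRecDepth 100000
set_option linter.all false

namespace Cfsg.Agent.Helper27.Fi22TC.T3

open Cfsg.Agent.Helper28 Cfsg.Agent.Helper27.Fi22TC
open Cfsg.Spor.Fi22 (Gen)

noncomputable section

def tb_a : Nat := 2132648112073749894454223684991296815818901013808365193151833961293868831865588259672011141699331784693528080501214702363980438331502641825251131507427557929371330326601034318014166742895273891150894836055851524329832052587427375073646162923969495169897598976
def tb_b : Nat := 2132648112072875904518558401261304143388729313886266768683786549675727331039361369759957424197919248604035839943341659987811164197705214074025411259959047324809544303002290172661888359543087100553125179059333278801175455697222561578490628157904455310057148416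
def tb_c : Nat := 2132648110284255181166962685260149997149169276678054950420621020661306388414668088095170243149846409278757145542885088785605059909420286150410924261277778158486156078372471120844005166898613861893090658373092864239676260434211632299186149677702474018261569536
def tb_d : Nat := 2132640782304278259768821351714949746375517028542495715164692941173809192309051872354797329125572623085226317126155716919486447202175226634658640677648729739533309115569474669195824383708010994918853721209435800323359132659786750312461711937569178419843833856
def tb_e : Nat := 2132648108492576132961574027413311800213089536284966423684370416720000500298943089608566348258868754395574747814816165181111616212082194586906262001326775898917658851513471611974013778585789319924518645871304005122414863202432187303432981217688244414368976896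
def tb_f : Nat := 2132648112073749574389505474957526055789951735503206843060738563784225994887116684610357863384162009072703935210913833123829329568469338949386557919677859077482041793841523836815051095771135845596498011158403206318444893682654210491491735024980809266736664576
def tb_g : Nat := 2132648112073749894454223684991296815818901013808365193151833961293868831865588259672011141699331784693528080501214702363980438331502641825251131507427557929371330326601034318014166742895273891150894836055851524329832052587427375073646162923969495169897598976
def tb_h : Nat := 2102625376317934223124407385417946624057739829562395045753007262649532278636373178557983392586078297135624802130985895256322997866283404476559041326237172755808452435968164147623530897540783723704765433499285266576930484600185895133151299556772521710924595201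
def tb_i : Nat := 2132648112073749894454223684991296815818901013808365193151833961293868831865588259672011141699331784693528080501214702363980438331502641825251131507427557929371330326601034318014166742895273891150894836055851524329832052587427375073646162923969495169897598976
def tbF : Gen → Nat
  | .a => tb_a
  | .b => tb_b
  | .c => tb_c
  | .d => tb_d
  | .e => tb_e
  | .f => tb_f
  | .g => tb_g
  | .h => tb_h
  | .i => tb_i
def lv_a : Nat := 0
def lv_b : Nat := 14934863911736731330163878821140283122168502253973227652530212974557313816890891629178001241661731656100840379175049883789571852087520076382150866615150622460367950949502270709489015788148950736831437888045205065586177642496592074517039926552730180937098223107259809261328334404644949470691658813067887058630269237129250187964899457100576587776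
def lv_c : Nat := 14934863909346119286163323332665711514212967668225291147840044615498708642271729474928746286473075472168947401256665415934153665913449493596100936002921465569641725554756736117734295807318270563329068910292548385975286577377627131116715653950073185898144131758204569353098961681450669665484788738291421097259465647477128012242677102035723223040
def lv_d : Nat := 14934664509600796962136244082956210746470673747624050929922516860640161164358268915811832153886475888152468052769961678033144683758427651640480603690838123007061897849676809139821018362913129763006779190260637168248867685617643187936276808701770321263540251957591114566528475623281158473245197026837172864553007082697030391714593155934809227264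
def lv_e : Nat := 14934863908911457124449273095025534034298667262035300394002743677728807457011871476567527372984384649552438379612753517786926172366511016768760868956638711844453216699018363150799646879064213660358742860934377746836056627262336782178811355458377318740078667115383667279134889728882287017041746679987449687272874675083352564137602638086651641856
def lv_f : Nat := 14934863911736757858824822961723629457110209793094845905900516626133781586727212875371679890845436193550395552247306452020047400930930645833656033673724510227342422376886157632591556983974315598465992789543067831593212040283011118073827635509162748253960304123441700527797949995842193612953006170871849400450724736778866362593615404611290660864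
def lv_g : Nat := 0
def lv_h : Nat := 933415644935485807291224118946285114771030106155077209768822324837974241800160560163383339747161661676940033330558049537691655288083906102395707937269986960101371794960585656286711122245518075272119049716550402717558612358730163429206384213364931313097639888228264334018858421470880716391264325063189813132921205644227551946913121328450043904
def lv_i : Nat := 0
def lvF : Gen → Nat
  | .a => lv_a
  | .b => lv_b
  | .c => lv_c
  | .d => lv_d
  | .e => lv_e
  | .f => lv_f
  | .g => lv_g
  | .h => lv_h
  | .i => lv_i
def plT : Nat := 223925443557035388884082938271717924623365831065824784086149961849912665744578727650160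
def R0 : Word Gen := [(Gen.a, true)]
def R1 : Word Gen := [(Gen.g, true)]
def R2 : Word Gen := [(Gen.i, true)]
def R3 : Word Gen := [(Gen.b, true), (Gen.b, true)]
def R4 : Word Gen := [(Gen.c, true), (Gen.c, true)]
def R5 : Word Gen := [(Gen.d, true), (Gen.d, true)]
def R6 : Word Gen := [(Gen.e, true), (Gen.e, true)]
def R7 : Word Gen := [(Gen.f, true), (Gen.f, true)]
def R8 : Word Gen := [(Gen.h, true), (Gen.h, true)]
def R9 : Word Gen := [(Gen.b, true), (Gen.c, true), (Gen.b, true), (Gen.c, true), (Gen.b, true), (Gen.c, true)]
def R10 : Word Gen := [(Gen.b, true), (Gen.d, true), (Gen.b, true), (Gen.d, true)]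
def R11 : Word Gen := [(Gen.b, true), (Gen.e, true), (Gen.b, true), (Gen.e, true)]
def R12 : Word Gen := [(Gen.b, true), (Gen.f, true), (Gen.b, true), (Gen.f, true)]
def R13 : Word Gen := [(Gen.b, true), (Gen.h, true), (Gen.b, true), (Gen.h, true)]
def R14 : Word Gen := [(Gen.c, true), (Gen.d, true), (Gen.c, true), (Gen.d, true), (Gen.c, true), (Gen.d, true)]
def R15 : Word Gen := [(Gen.c, true), (Gen.e, true), (Gen.c, true), (Gen.e, true)]
def R16 : Word Gen := [(Gen.c, true), (Gen.f, true), (Gen.c, true), (Gen.f, true)]
def R17 : Word Gen := [(Gen.c, true), (Gen.h, true), (Gen.c, true), (Gen.h, true)]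
def R18 : Word Gen := [(Gen.d, true), (Gen.e, true), (Gen.d, true), (Gen.e, true), (Gen.d, true), (Gen.e, true)]
def R19 : Word Gen := [(Gen.d, true), (Gen.f, true), (Gen.d, true), (Gen.f, true)]
def R20 : Word Gen := [(Gen.d, true), (Gen.h, true), (Gen.d, true), (Gen.h, true), (Gen.d, true), (Gen.h, true)]
def R21 : Word Gen := [(Gen.e, true), (Gen.f, true), (Gen.e, true), (Gen.f, true), (Gen.e, true), (Gen.f, true)]
def R22 : Word Gen := [(Gen.e, true), (Gen.h, true), (Gen.e, true), (Gen.h, true)]
def R23 : Word Gen := [(Gen.f, true), (Gen.h, true), (Gen.f, true), (Gen.h, true)]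
def relL : List (Word Gen) := [R0, R1, R2, R3, R4, R5, R6, R7, R8, R9, R10, R11, R12, R13, R14, R15, R16, R17, R18, R19, R20, R21, R22, R23]
def D : TCData :=
  { n := 72, hn := rfl, tb := tbF, lv := lvF, pl := plT, relL := relL,
    subL := [Gen.b, Gen.c, Gen.d, Gen.e, Gen.f], L := 0, sx := 99, sp := 0 }

theorem h1 : D.chkInvol = true := by decide +kernel
theorem h2 : D.chkRels = true := by decide +kernel
theorem h3 : D.chkSub = true := by decide +kernel
theorem h4 : D.chkTr = true := by decide +kernel
theorem relone_0 : wG D.rels R0 = 1 := D.relone R0 (List.Mem.head _)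
theorem relone_1 : wG D.rels R1 = 1 := D.relone R1 (List.Mem.tail _ (List.Mem.head _))
theorem relone_2 : wG D.rels R2 = 1 := D.relone R2 (List.Mem.tail _ (List.Mem.tail _ (List.Mem.head _)))
theorem relone_3 : wG D.rels R3 = 1 := D.relone R3 (List.Mem.tail _ (List.Mem.tail _ (List.Mem.tail _ (List.Mem.head _))))
theorem relone_4 : wG D.rels R4 = 1 := D.relone R4 (List.Mem.tail _ (List.Mem.tail _ (List.Mem.tail _ (List.Mem.tail _ (List.Mem.head _)))))
theorem relone_5 : wG D.rels R5 = 1 := D.relone R5 (List.Mem.tail _ (List.Mem.tail _ (List.Mem.tail _ (List.Mem.tail _ (List.Mem.tail _ (List.Mem.head _))))))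
theorem relone_6 : wG D.rels R6 = 1 := D.relone R6 (List.Mem.tail _ (List.Mem.tail _ (List.Mem.tail _ (List.Mem.tail _ (List.Mem.tail _ (List.Mem.tail _ (List.Mem.head _)))))))
theorem relone_7 : wG D.rels R7 = 1 := D.relone R7 (List.Mem.tail _ (List.Mem.tail _ (List.Mem.tail _ (List.Mem.tail _ (List.Mem.tail _ (List.Mem.tail _ (List.Mem.tail _ (List.Mem.head _))))))))
theorem relone_8 : wG D.rels R8 = 1 := D.relone R8 (List.Mem.tail _ (List.Mem.tail _ (List.Mem.tail _ (List.Mem.tail _ (List.Mem.tail _ (List.Mem.tail _ (List.Mem.tail _ (List.Mem.tail _ (List.Mem.head _)))))))))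
theorem relone_9 : wG D.rels R9 = 1 := D.relone R9 (List.Mem.tail _ (List.Mem.tail _ (List.Mem.tail _ (List.Mem.tail _ (List.Mem.tail _ (List.Mem.tail _ (List.Mem.tail _ (List.Mem.tail _ (List.Mem.tail _ (List.Mem.head _))))))))))
theorem relone_10 : wG D.rels R10 = 1 := D.relone R10 (List.Mem.tail _ (List.Mem.tail _ (List.Mem.tail _ (List.Mem.tail _ (List.Mem.tail _ (List.Mem.tail _ (List.Mem.tail _ (List.Mem.tail _ (List.Mem.tail _ (List.Mem.tail _ (List.Mem.head _)))))))))))
theorem relone_11 : wG D.rels R11 = 1 := D.relone R11 (List.Mem.tail _ (List.Mem.tail _ (List.Mem.tail _ (List.Mem.tail _ (List.Mem.tail _ (List.Mem.tail _ (List.Mem.tail _ (List.Mem.tail _ (List.Mem.tail _ (List.Mem.tail _ (List.Mem.tail _ (List.Mem.head _))))))))))))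
theorem relone_12 : wG D.rels R12 = 1 := D.relone R12 (List.Mem.tail _ (List.Mem.tail _ (List.Mem.tail _ (List.Mem.tail _ (List.Mem.tail _ (List.Mem.tail _ (List.Mem.tail _ (List.Mem.tail _ (List.Mem.tail _ (List.Mem.tail _ (List.Mem.tail _ (List.Mem.tail _ (List.Mem.head _)))))))))))))
theorem relone_13 : wG D.rels R13 = 1 := D.relone R13 (List.Mem.tail _ (List.Mem.tail _ (List.Mem.tail _ (List.Mem.tail _ (List.Mem.tail _ (List.Mem.tail _ (List.Mem.tail _ (List.Mem.tail _ (List.Mem.tail _ (List.Mem.tail _ (List.Mem.tail _ (List.Mem.tail _ (List.Mem.tail _ (List.Mem.head _))))))))))))))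
theorem relone_14 : wG D.rels R14 = 1 := D.relone R14 (List.Mem.tail _ (List.Mem.tail _ (List.Mem.tail _ (List.Mem.tail _ (List.Mem.tail _ (List.Mem.tail _ (List.Mem.tail _ (List.Mem.tail _ (List.Mem.tail _ (List.Mem.tail _ (List.Mem.tail _ (List.Mem.tail _ (List.Mem.tail _ (List.Mem.tail _ (List.Mem.head _)))))))))))))))
theorem relone_15 : wG D.rels R15 = 1 := D.relone R15 (List.Mem.tail _ (List.Mem.tail _ (List.Mem.tail _ (List.Mem.tail _ (List.Mem.tail _ (List.Mem.tail _ (List.Mem.tail _ (List.Mem.tail _ (List.Mem.tail _ (List.Mem.tail _ (List.Mem.tail _ (List.Mem.tail _ (List.Mem.tail _ (List.Mem.tail _ (List.Mem.tail _ (List.Mem.head _))))))))))))))))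
theorem relone_16 : wG D.rels R16 = 1 := D.relone R16 (List.Mem.tail _ (List.Mem.tail _ (List.Mem.tail _ (List.Mem.tail _ (List.Mem.tail _ (List.Mem.tail _ (List.Mem.tail _ (List.Mem.tail _ (List.Mem.tail _ (List.Mem.tail _ (List.Mem.tail _ (List.Mem.tail _ (List.Mem.tail _ (List.Mem.tail _ (List.Mem.tail _ (List.Mem.tail _ (List.Mem.head _)))))))))))))))))
theorem relone_17 : wG D.rels R17 = 1 := D.relone R17 (List.Mem.tail _ (List.Mem.tail _ (List.Mem.tail _ (List.Mem.tail _ (List.Mem.tail _ (List.Mem.tail _ (List.Mem.tail _ (List.Mem.tail _ (List.Mem.tail _ (List.Mem.tail _ (List.Mem.tail _ (List.Mem.tail _ (List.Mem.tail _ (List.Mem.tail _ (List.Mem.tail _ (List.Mem.tail _ (List.Mem.tail _ (List.Mem.head _))))))))))))))))))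
theorem relone_18 : wG D.rels R18 = 1 := D.relone R18 (List.Mem.tail _ (List.Mem.tail _ (List.Mem.tail _ (List.Mem.tail _ (List.Mem.tail _ (List.Mem.tail _ (List.Mem.tail _ (List.Mem.tail _ (List.Mem.tail _ (List.Mem.tail _ (List.Mem.tail _ (List.Mem.tail _ (List.Mem.tail _ (List.Mem.tail _ (List.Mem.tail _ (List.Mem.tail _ (List.Mem.tail _ (List.Mem.tail _ (List.Mem.head _)))))))))))))))))))
theorem relone_19 : wG D.rels R19 = 1 := D.relone R19 (List.Mem.tail _ (List.Mem.tail _ (List.Mem.tail _ (List.Mem.tail _ (List.Mem.tail _ (List.Mem.tail _ (List.Mem.tail _ (List.Mem.tail _ (List.Mem.tail _ (List.Mem.tail _ (List.Mem.tail _ (List.Mem.tail _ (List.Mem.tail _ (List.Mem.tail _ (List.Mem.tail _ (List.Mem.tail _ (List.Mem.tail _ (List.Mem.tail _ (List.Mem.tail _ (List.Mem.head _))))))))))))))))))))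
theorem relone_20 : wG D.rels R20 = 1 := D.relone R20 (List.Mem.tail _ (List.Mem.tail _ (List.Mem.tail _ (List.Mem.tail _ (List.Mem.tail _ (List.Mem.tail _ (List.Mem.tail _ (List.Mem.tail _ (List.Mem.tail _ (List.Mem.tail _ (List.Mem.tail _ (List.Mem.tail _ (List.Mem.tail _ (List.Mem.tail _ (List.Mem.tail _ (List.Mem.tail _ (List.Mem.tail _ (List.Mem.tail _ (List.Mem.tail _ (List.Mem.tail _ (List.Mem.head _)))))))))))))))))))))
theorem relone_21 : wG D.rels R21 = 1 := D.relone R21 (List.Mem.tail _ (List.Mem.tail _ (List.Mem.tail _ (List.Mem.tail _ (List.Mem.tail _ (List.Mem.tail _ (List.Mem.tail _ (List.Mem.tail _ (List.Mem.tail _ (List.Mem.tail _ (List.Mem.tail _ (List.Mem.tail _ (List.Mem.tail _ (List.Mem.tail _ (List.Mem.tail _ (List.Mem.tail _ (List.Mem.tail _ (List.Mem.tail _ (List.Mem.tail _ (List.Mem.tail _ (List.Mem.tail _ (List.Mem.head _))))))))))))))))))))))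
theorem relone_22 : wG D.rels R22 = 1 := D.relone R22 (List.Mem.tail _ (List.Mem.tail _ (List.Mem.tail _ (List.Mem.tail _ (List.Mem.tail _ (List.Mem.tail _ (List.Mem.tail _ (List.Mem.tail _ (List.Mem.tail _ (List.Mem.tail _ (List.Mem.tail _ (List.Mem.tail _ (List.Mem.tail _ (List.Mem.tail _ (List.Mem.tail _ (List.Mem.tail _ (List.Mem.tail _ (List.Mem.tail _ (List.Mem.tail _ (List.Mem.tail _ (List.Mem.tail _ (List.Mem.tail _ (List.Mem.head _)))))))))))))))))))))))
theorem relone_23 : wG D.rels R23 = 1 := D.relone R23 (List.Mem.tail _ (List.Mem.tail _ (List.Mem.tail _ (List.Mem.tail _ (List.Mem.tail _ (List.Mem.tail _ (List.Mem.tail _ (List.Mem.tail _ (List.Mem.tail _ (List.Mem.tail _ (List.Mem.tail _ (List.Mem.tail _ (List.Mem.tail _ (List.Mem.tail _ (List.Mem.tail _ (List.Mem.tail _ (List.Mem.tail _ (List.Mem.tail _ (List.Mem.tail _ (List.Mem.tail _ (List.Mem.tail _ (List.Mem.tail _ (List.Mem.tail _ (List.Mem.head _))))))))))))))))))))))))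
theorem hinv : ∀ x : Gen, wG D.rels [(x, true), (x, true)] = 1 := by
  intro x
  cases x
  · exact sq_of_kill D.rels relone_0
  · exact relone_3
  · exact relone_4
  · exact relone_5
  · exact relone_6
  · exact relone_7
  · exact sq_of_kill D.rels relone_1
  · exact relone_8
  · exact sq_of_kill D.rels relone_2

end

end Cfsg.Agent.Helper27.Fi22TC.T3
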